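import Cfsg.Agent.S0089
import Cfsg.Agent.S0205
import Cfsg.Agent.S0506
import Cfsg.Agent.S0806
import Cfsg.Agent.S0991
import Cfsg.Agent.H395.Jordan
import Cfsg.Agent.S4149

/-!
Subgroups of 2-power index in perfect groups with abelian Sylow 2-subgroups.
-/

set_option autoImplicit false

namespace Cfsg.Agent.H178.AGroupIndex

open Subgroup

/-- A group with no conjugacy class of size divisible by `p` has central Sylow `p`-subgroups. -/
theorem sylow_le_center {D : Type*} [Group D] [Finite D] (p : ℕ) [Fact p.Prime] (P : Sylow p D)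
    (h : ∀ y : D, ¬ p ∣ (centralizer ({y} : Set D)).index) : (P : Subgroup D) ≤ center D := by
  have htop : centralizer ((P : Subgroup D) : Set D) = ⊤ := by
    by_contra hne
    obtain ⟨y, hy⟩ := Cfsg.Agent.H395.Jordan.exists_not_conj_mem hne
    obtain ⟨Q, hQ⟩ := Cfsg.Agent.S4149.exists_sylow_le_centralizer p _ (h y)
    obtain ⟨g, hg⟩ := MulAction.exists_smul_eq D P Q
    refine hy g ?_
    rw [mem_centralizer_iff]
    intro u hu
    have hu' : g * u * g⁻¹ ∈ (Q : Subgroup D) := by
      rw [← hg]
      show g * u * g⁻¹ ∈ ((g • P : Sylow p D) : Subgroup D)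
      rw [Sylow.coe_subgroup_smul]
      exact ⟨u, hu, rfl⟩
    have h1 := hQ hu'
    rw [mem_centralizer_singleton_iff] at h1
    calc u * (g⁻¹ * y * g) = g⁻¹ * ((g * u * g⁻¹) * y) * g := by group
      _ = g⁻¹ * (y * (g * u * g⁻¹)) * g := by rw [h1]
      _ = g⁻¹ * y * g * u := by group
  intro u hu
  rw [mem_center_iff]
  intro g
  have : g ∈ centralizer ((P : Subgroup D) : Set D) := by rw [htop]; trivial
  exact ((mem_centralizer_iff.mp this) u hu).symm

end Cfsg.Agent.H178.AGroupIndex
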