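import Cfsg.Agent.H178.AGroupSimple
import Cfsg.Agent.H438.MaxOrders
import Cfsg.Agent.S0007

/-!
A perfect group with abelian Sylow 2-subgroups has no proper subgroup of 2-power index.
-/

set_option autoImplicit false

namespace Cfsg.Agent.H178.AGroupPerfect

open Subgroup

/-- abelian Sylow subgroups pass to quotients -/
theorem sylow_comm_quotient {D : Type*} [Group D] [Finite D] {E : Type*} [Group E] (f : D →* E)
    (hf : Function.Surjective f) (p : ℕ) [Fact p.Prime]
    (h : ∀ P : Sylow p D, IsMulCommutative (P : Subgroup D)) (Q : Sylow p E) :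
    IsMulCommutative (Q : Subgroup E) := by
  obtain ⟨P, hP⟩ := Sylow.mapSurjective_surjective hf p Q
  have hc := isMulCommutative_iff.mp (h P)
  rw [← hP]
  apply IsMulCommutative.of_comm
  rintro ⟨a, ha⟩ ⟨b, hb⟩
  rw [Sylow.coe_mapSurjective] at ha hb
  obtain ⟨x, hx, rfl⟩ := ha
  obtain ⟨y, hy, rfl⟩ := hb
  have := hc ⟨x, hx⟩ ⟨y, hy⟩
  have h2 : x * y = y * x := congrArg Subtype.val this
  apply Subtype.ext
  show f x * f y = f y * f x
  rw [← map_mul, h2, map_mul]

/-- quotients of perfect groups are perfect -/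
theorem perfect_quotient {D E : Type*} [Group D] [Group E] (f : D →* E)
    (hf : Function.Surjective f) (h : commutator D = ⊤) : commutator E = ⊤ := by
  have h1 : (commutator D).map f = commutator E := by
    rw [commutator_def, commutator_def, Subgroup.map_commutator, ← MonoidHom.range_eq_map,
      MonoidHom.range_eq_top.mpr hf]
  rw [← h1, h, ← MonoidHom.range_eq_map, MonoidHom.range_eq_top.mpr hf]

/-- **A perfect group with abelian Sylow 2-subgroups has no proper subgroup of 2-power index.** -/
theorem eq_top_of_perfect (n : ℕ) : ∀ {D : Type*} [Group D] [Finite D], Nat.card D = n →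
    commutator D = ⊤ → (∀ P : Sylow 2 D, IsMulCommutative (P : Subgroup D)) →
    ∀ (B : Subgroup D) (k : ℕ), B.index = 2 ^ k → B = ⊤ := by
  induction n using Nat.strong_induction_on with
  | _ n ih =>
  intro D _ _ hn hperf hab B k hB
  rcases subsingleton_or_nontrivial D with hsub | hnt
  · exact Subsingleton.elim _ _
  obtain ⟨P⟩ : Nonempty (Sylow 2 D) := inferInstance
  have hPc : ∀ a ∈ (P : Subgroup D), ∀ b ∈ (P : Subgroup D), a * b = b * a := by
    intro a ha b hb
    have := isMulCommutative_iff.mp (hab P) ⟨a, ha⟩ ⟨b, hb⟩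
    exact congrArg Subtype.val this
  have hcop : B.index.Coprime (P : Subgroup D).index := by
    rw [hB]
    apply Nat.Coprime.pow_left
    exact (Nat.Prime.coprime_iff_not_dvd Nat.prime_two).mpr P.not_dvd_index
  have hmul := Cfsg.Agent.S0007.exists_mul_eq B (P : Subgroup D) hcop
  by_cases hdis : ∃ u ∈ (P : Subgroup D), u ∈ B ∧ u ≠ 1
  · obtain ⟨u, huP, huB, hu1⟩ := hdis
    have hNB : normalClosure ({u} : Set D) ≤ B := by
      rw [normalClosure, closure_le]
      intro x hx
      rw [Group.mem_conjugatesOfSet_iff] at hx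
      obtain ⟨v, hv, hvx⟩ := hx
      rw [Set.mem_singleton_iff] at hv
      subst hv
      rw [isConj_iff] at hvx
      obtain ⟨d, hd⟩ := hvx
      obtain ⟨b, hb, p, hp, hbp⟩ := hmul d
      have h1 : p * v * p⁻¹ = v := by rw [hPc p hp v huP]; group
      have h2 : x = b * v * b⁻¹ := by
        rw [← hd, hbp]
        calc b * p * v * (b * p)⁻¹ = b * (p * v * p⁻¹) * b⁻¹ := by group
          _ = b * v * b⁻¹ := by rw [h1]
      rw [h2]
      exact B.mul_mem (B.mul_mem hb huB) (B.inv_mem hb)
    set N := normalClosure ({u} : Set D) with hN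
    have huN : u ∈ N := subset_normalClosure rfl
    have hcardN : Nat.card (D ⧸ N) < n := by
      rw [← hn, Subgroup.card_eq_card_quotient_mul_card_subgroup N]
      have h1 : 1 < Nat.card N := by
        rw [Finite.one_lt_card_iff_nontrivial]
        exact ⟨⟨⟨u, huN⟩, 1, fun h => hu1 (congrArg Subtype.val h)⟩⟩
      have h2 : 0 < Nat.card (D ⧸ N) := Nat.card_pos
      nlinarith
    have hidx : (B.map (QuotientGroup.mk' N)).index = 2 ^ k := by
      rw [index_map_eq B (QuotientGroup.mk'_surjective N) (by rw [QuotientGroup.ker_mk']; exact hNB), hB]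
    have htop := ih _ hcardN rfl (perfect_quotient (QuotientGroup.mk' N) (QuotientGroup.mk'_surjective N) hperf)
      (sylow_comm_quotient (QuotientGroup.mk' N) (QuotientGroup.mk'_surjective N) 2 hab)
      (B.map (QuotientGroup.mk' N)) k hidx
    rw [htop, index_top] at hidx
    rw [← hidx] at hB
    exact index_eq_one.mp hB
  · push Not at hdis
    -- `B` has odd order
    have hodd : Odd (Nat.card B) := by
      rw [← Nat.not_even_iff_odd, even_iff_two_dvd]
      intro h2
      obtain ⟨⟨t, htB⟩, ht⟩ := exists_prime_orderOf_dvd_card' 2 h2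
      rw [Subgroup.orderOf_mk] at ht
      have hz : IsPGroup 2 (zpowers t) := by
        apply IsPGroup.of_card (n := 1)
        rw [Nat.card_zpowers, ht, pow_one]
      obtain ⟨Q, hQ⟩ := hz.exists_le_sylow
      obtain ⟨g, hg⟩ := MulAction.exists_smul_eq D Q P
      have hgt : g * t * g⁻¹ ∈ (P : Subgroup D) := by
        rw [← hg, Sylow.coe_subgroup_smul]
        exact ⟨t, hQ (mem_zpowers t), rfl⟩
      obtain ⟨b, hb, p, hp, hbp⟩ := hmul g⁻¹
      -- `g⁻¹ = b p`, so `b⁻¹ t b = p (g t g⁻¹) p⁻¹`
      have hg' : g = p⁻¹ * b⁻¹ := by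
        rw [← inv_inv g, hbp, mul_inv_rev]
      have h3 : b⁻¹ * t * b ∈ (P : Subgroup D) := by
        have h4 : b⁻¹ * t * b = p * (g * t * g⁻¹) * p⁻¹ := by
          rw [hg']; group
        rw [h4]
        exact mul_mem (mul_mem hp hgt) (inv_mem hp)
      have h5 : b⁻¹ * t * b ∈ B := B.mul_mem (B.mul_mem (B.inv_mem hb) htB) hb
      have h6 := hdis _ h3 h5
      have h7 : t = 1 := by
        calc t = b * (b⁻¹ * t * b) * b⁻¹ := by group
          _ = 1 := by rw [h6]; group
      rw [h7, orderOf_one] at ht
      norm_num at ht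
    obtain ⟨K, hK, hsimple⟩ := Cfsg.Agent.H438.MaxOrders.exists_simple_quotient D
    have hperfK := perfect_quotient (QuotientGroup.mk' K) (QuotientGroup.mk'_surjective K) hperf
    have hna : ¬ IsMulCommutative (D ⧸ K) := by
      intro h
      have hc := isMulCommutative_iff.mp h
      have : commutator (D ⧸ K) = ⊥ := by
        rw [commutator_def, Subgroup.commutator_eq_bot_iff_le_centralizer]
        intro x _
        rw [mem_centralizer_iff]
        intro y _
        exact hc y x
      rw [this] at hperfK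
      have h1 : ∀ x : D ⧸ K, x = 1 := by
        intro x
        have hx : x ∈ (⊥ : Subgroup (D ⧸ K)) := by rw [hperfK]; trivial
        exact mem_bot.mp hx
      have : Subsingleton (D ⧸ K) := ⟨fun a b => by rw [h1 a, h1 b]⟩
      exact not_subsingleton _ this
    obtain ⟨S⟩ : Nonempty (Sylow 2 (D ⧸ K)) := inferInstance
    have hS := sylow_comm_quotient (QuotientGroup.mk' K) (QuotientGroup.mk'_surjective K) 2 hab S
    have hidx : (B.map (QuotientGroup.mk' K)).index ∣ 2 ^ k := by
      rw [← hB]
      exact index_map_dvd B (QuotientGroup.mk'_surjective K)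
    obtain ⟨j, _, hj⟩ := (Nat.dvd_prime_pow Nat.prime_two).mp hidx
    have htop := Cfsg.Agent.H178.AGroupSimple.eq_top_of_simple hna S hS _ j hj
    have hcard : Nat.card (D ⧸ K) ∣ Nat.card B := by
      have : Nat.card (D ⧸ K) = Nat.card (B.map (QuotientGroup.mk' K)) := by
        rw [htop, card_top]
      rw [this]
      exact card_map_dvd _ _
    have hoddK : Odd (Nat.card (D ⧸ K)) := Odd.of_dvd_nat hodd hcard
    have hsol := Cfsg.Agent.S0205.result (G := D ⧸ K) hoddK
    exact (hna (IsMulCommutative.of_comm (IsSimpleGroup.comm_iff_isSolvable.mpr hsol))).elim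

end Cfsg.Agent.H178.AGroupPerfect
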