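import Cfsg.Agent.H178.AGroupIndex
import Cfsg.Agent.S0144
import Cfsg.Agent.S0243

/-!
A non-abelian simple group with abelian Sylow 2-subgroups has no proper subgroup of 2-power index.
-/

set_option autoImplicit false

namespace Cfsg.Agent.H178.AGroupSimple

open Subgroup

/-- A simple group of order dividing 24 is abelian. -/
theorem comm_of_card_dvd {L : Type*} [Group L] [Finite L] [IsSimpleGroup L]
    (h : Nat.card L ∣ 24) : IsMulCommutative L := by
  have hs : Group.IsSolvable L := by
    have : ∃ a b : ℕ, Nat.card L = 2 ^ a * 3 ^ b := by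
      have : Nat.card L ∈ Nat.divisors 24 := by simp [h]
      have h2 : Nat.divisors 24 = {1, 2, 3, 4, 6, 8, 12, 24} := by decide
      rw [h2] at this
      simp only [Finset.mem_insert, Finset.mem_singleton] at this
      rcases this with h | h | h | h | h | h | h | h <;> rw [h]
      · exact ⟨0, 0, by norm_num⟩
      · exact ⟨1, 0, by norm_num⟩
      · exact ⟨0, 1, by norm_num⟩
      · exact ⟨2, 0, by norm_num⟩
      · exact ⟨1, 1, by norm_num⟩
      · exact ⟨3, 0, by norm_num⟩
      · exact ⟨2, 1, by norm_num⟩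
      · exact ⟨3, 1, by norm_num⟩
    obtain ⟨a, b, hab⟩ := this
    exact Cfsg.Agent.S0144.result 2 3 a b Nat.prime_two Nat.prime_three hab
  exact IsMulCommutative.of_comm (IsSimpleGroup.comm_iff_isSolvable.mpr hs)

/-- the order of `PSL(2,q)` -/
theorem card_psl {F : Type*} [Field F] [Fintype F] {q : ℕ} (hF : Fintype.card F = q) :
    Nat.gcd 2 (q - 1) * ((q - 1) * Nat.card (Matrix.ProjectiveSpecialLinearGroup (Fin 2) F)) =
      (q ^ 2 - 1) * (q ^ 2 - q) := by
  have := Cfsg.Agent.S0243.result hF 2 le_rfl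
  rw [this, Fin.prod_univ_two]
  simp

theorem card_psl' {F : Type*} [Field F] [Fintype F] {q : ℕ} (hF : Fintype.card F = q) :
    Nat.gcd 2 (q - 1) * Nat.card (Matrix.ProjectiveSpecialLinearGroup (Fin 2) F) =
      (q ^ 2 - 1) * q := by
  have h := card_psl hF
  have hq : 1 < q := hF ▸ Fintype.one_lt_card
  have h2 : q ^ 2 - q = q * (q - 1) := by
    rw [Nat.mul_sub, mul_one, pow_two]
  rw [h2] at h
  have h3 : 0 < q - 1 := by omega
  apply Nat.eq_of_mul_eq_mul_left h3
  calc (q - 1) * (Nat.gcd 2 (q - 1) * Nat.card (Matrix.ProjectiveSpecialLinearGroup (Fin 2) F))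
      = Nat.gcd 2 (q - 1) * ((q - 1) * Nat.card (Matrix.ProjectiveSpecialLinearGroup (Fin 2) F)) := by ring
    _ = (q ^ 2 - 1) * (q * (q - 1)) := h
    _ = (q - 1) * ((q ^ 2 - 1) * q) := by ring

/-- bound by the degree of the permutation representation -/
theorem card_le_factorial {L : Type*} [Group L] [Finite L] [IsSimpleGroup L]
    (hL : ¬ IsMulCommutative L) (B : Subgroup L) (hB : B ≠ ⊤) : Nat.card L ∣ (B.index).factorial := by
  obtain ⟨f, hf⟩ := Cfsg.Agent.S0991.result hL B hB
  have h1 : Nat.card L ∣ Nat.card (alternatingGroup (Fin B.index)) :=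
    Subgroup.card_dvd_of_injective f hf
  have h2 : Nat.card (alternatingGroup (Fin B.index)) ∣ Nat.card (Equiv.Perm (Fin B.index)) :=
    Subgroup.card_subgroup_dvd_card _
  have h3 : Nat.card (Equiv.Perm (Fin B.index)) = (B.index).factorial := by
    rw [Nat.card_perm, Nat.card_fin]
  rw [h3] at h2
  exact h1.trans h2

/-- **A non-abelian simple group with abelian Sylow 2-subgroups has no proper subgroup of 2-power
index.** -/
theorem eq_top_of_simple {L : Type*} [Group L] [Finite L] [IsSimpleGroup L]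
    (hL : ¬ IsMulCommutative L) (S : Sylow 2 L) (hS : IsMulCommutative (S : Subgroup L))
    (B : Subgroup L) (k : ℕ) (hB : B.index = 2 ^ k) : B = ⊤ := by
  by_contra hne
  have hdvd : 2 ^ k ∣ Nat.card L := hB ▸ B.index_dvd_card
  have hfac := card_le_factorial hL B hne
  -- a bound on the index
  have key8 : ¬ 2 ^ 4 ∣ Nat.card L → B.index ≤ 8 := by
    intro h
    have hk : k ≤ 3 := by
      by_contra hk
      exact h ((pow_dvd_pow 2 (by omega)).trans hdvd)
    rw [hB]
    calc 2 ^ k ≤ 2 ^ 3 := Nat.pow_le_pow_right (by norm_num) hk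
      _ = 8 := by norm_num
  have card8 : B.index ≤ 8 → Nat.card L ≤ 40320 := by
    intro h
    have h1 : Nat.card L ≤ (B.index).factorial := Nat.le_of_dvd (Nat.factorial_pos _) hfac
    have h2 : (B.index).factorial ≤ (8 : ℕ).factorial := Nat.factorial_le h
    have h3 : (8 : ℕ).factorial = 40320 := by decide
    omega
  rcases Cfsg.Agent.S0506.result hL S hS with ⟨a, ha, F, iF, iF', hF, ⟨e⟩⟩ | ⟨F, iF, iF', hF, ⟨e⟩⟩ | h | h
  · -- PSL(2, 2^a)
    have hc := card_psl' hF
    have hcard : Nat.card L = Nat.card (Matrix.ProjectiveSpecialLinearGroup (Fin 2) F) :=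
      Nat.card_congr e.toEquiv
    have hpos : 2 ∣ 2 ^ a := dvd_pow_self 2 (by omega)
    have hgcd : Nat.gcd 2 (2 ^ a - 1) = 1 := by
      have h1 : 1 ≤ 2 ^ a := Nat.one_le_two_pow
      rw [← Nat.coprime_iff_gcd_eq_one, Nat.coprime_two_left, Nat.odd_iff]
      omega
    rw [hgcd, one_mul, ← hcard] at hc
    have hle : 2 ^ k ≤ 2 ^ a := by
      apply Nat.le_of_dvd (by positivity)
      rw [hc] at hdvd
      refine Nat.Coprime.dvd_of_dvd_mul_left ?_ hdvd
      apply Nat.Coprime.pow_left
      rw [Nat.coprime_two_left, Nat.odd_iff]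
      have h1 : 1 ≤ (2 ^ a) ^ 2 := Nat.one_le_pow _ _ (by positivity)
      have h2 : 2 ∣ (2 ^ a) ^ 2 := dvd_pow hpos (by norm_num)
      omega
    have hmin := (Cfsg.Agent.S0806.result (F := F) (q := 2 ^ a) hF (by
      have h4 : 4 ≤ 2 ^ a := by
        calc 4 = 2 ^ 2 := by norm_num
          _ ≤ 2 ^ a := Nat.pow_le_pow_right (by norm_num) ha
      simp only [Finset.mem_insert, Finset.mem_singleton]
      omega)).1 (B.map e.toMonoidHom) (by
        intro htop
        apply hne
        rw [eq_top_iff]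
        intro x _
        have : e x ∈ B.map e.toMonoidHom := by rw [htop]; trivial
        obtain ⟨y, hy, hyx⟩ := this
        have : y = x := e.injective hyx
        rwa [← this])
    have hidx : (B.map e.toMonoidHom).index = B.index :=
      Subgroup.index_map_of_bijective e.bijective B
    rw [hidx, hB] at hmin
    omega
  · -- PSL(2, q), q = 3, 5 mod 8
    have hc := card_psl' (F := F) rfl
    set q := Fintype.card F with hq
    have hcard : Nat.card L = Nat.card (Matrix.ProjectiveSpecialLinearGroup (Fin 2) F) :=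
      Nat.card_congr e.toEquiv
    have hgcd : Nat.gcd 2 (q - 1) = 2 := by
      apply Nat.gcd_eq_left
      omega
    rw [hgcd, ← hcard] at hc
    have hk : k ≤ 2 := by
      by_contra hk
      have h8 : 2 ^ 3 ∣ Nat.card L := (pow_dvd_pow 2 (by omega)).trans hdvd
      have h16 : 16 ∣ 2 * Nat.card L := by
        have := Nat.mul_dvd_mul_left 2 h8
        simpa using this
      rw [hc] at h16
      have hodd : Nat.Coprime 16 q := by
        have : Nat.Coprime (2 ^ 4) q := by
          apply Nat.Coprime.pow_left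
          rw [Nat.coprime_two_left, Nat.odd_iff]
          omega
        simpa using this
      have h16' : 16 ∣ q ^ 2 - 1 := hodd.dvd_of_dvd_mul_right h16
      have hm : q % 16 = 3 ∨ q % 16 = 5 ∨ q % 16 = 11 ∨ q % 16 = 13 := by omega
      have hsq : q ^ 2 % 16 = 9 := by
        rcases hm with h | h | h | h <;> rw [Nat.pow_mod, h]
      have h1 : 1 ≤ q ^ 2 := Nat.one_le_pow _ _ (by omega)
      omega
    have hle : B.index ≤ 4 := by
      rw [hB]
      calc 2 ^ k ≤ 2 ^ 2 := Nat.pow_le_pow_right (by norm_num) hk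
        _ = 4 := by norm_num
    apply hL
    apply comm_of_card_dvd
    exact hfac.trans (Nat.factorial_dvd_factorial hle)
  · -- Ree groups
    obtain ⟨_, m, hm, hcard⟩ := h
    have hmod : (3 ^ (2 * m + 1)) % 16 = 3 ∨ (3 ^ (2 * m + 1)) % 16 = 11 := by
      clear hcard hm
      induction m with
      | zero => left; norm_num
      | succ n ih =>
        have : 3 ^ (2 * (n + 1) + 1) = 3 ^ (2 * n + 1) * 9 := by ring
        rw [this]
        omega
    have h27 : 27 ≤ 3 ^ (2 * m + 1) := by
      calc 27 = 3 ^ 3 := by norm_num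
        _ ≤ 3 ^ (2 * m + 1) := Nat.pow_le_pow_right (by norm_num) (by omega)
    generalize 3 ^ (2 * m + 1) = q at *
    have hnd : ¬ 2 ^ 4 ∣ Nat.card L := by
      rw [hcard]
      intro h
      have h2 : (q ^ 3 * (q ^ 3 + 1) * (q - 1)) % 16 = 0 := Nat.mod_eq_zero_of_dvd (by simpa using h)
      have hq1 : (q - 1) % 16 = 2 ∨ (q - 1) % 16 = 10 := by omega
      rcases hmod with h3 | h3
      · have h4 : (q - 1) % 16 = 2 := by omega
        have h5 : q ^ 3 % 16 = 11 := by rw [Nat.pow_mod, h3]
        have h6 : (q ^ 3 + 1) % 16 = 12 := by omega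
        rw [Nat.mul_mod, Nat.mul_mod (q ^ 3), h5, h6, h4] at h2
        norm_num at h2
      · have h4 : (q - 1) % 16 = 10 := by omega
        have h5 : q ^ 3 % 16 = 3 := by rw [Nat.pow_mod, h3]
        have h6 : (q ^ 3 + 1) % 16 = 4 := by omega
        rw [Nat.mul_mod, Nat.mul_mod (q ^ 3), h5, h6, h4] at h2
        norm_num at h2
    have hle := card8 (key8 hnd)
    rw [hcard] at hle
    have h1 : 27 ^ 3 ≤ q ^ 3 := Nat.pow_le_pow_left h27 3
    have h2 : 27 ^ 3 * 27 ≤ q ^ 3 * (q ^ 3 + 1) := Nat.mul_le_mul h1 (by omega)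
    have h3 : 27 ^ 3 * 27 * 1 ≤ q ^ 3 * (q ^ 3 + 1) * (q - 1) := Nat.mul_le_mul h2 (by omega)
    omega
  · -- order 175560
    obtain ⟨_, hcard⟩ := h
    have hle := card8 (key8 (by rw [hcard]; norm_num))
    omega

end Cfsg.Agent.H178.AGroupSimple
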